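import Groth.Prelude.Def_NonAbH1
import Mathlib.CategoryTheory.Sites.Whiskering

/-!
The boundary of non-abelian cohomology: fibre torsors of the quotient by a subgroup sheaf.
-/

set_option autoImplicit false
set_option linter.unusedSectionVars false
set_option linter.style.haveILetI false
set_option backward.isDefEq.respectTransparency false
set_option backward.isDefEq.respectTransparency.types false

universe w v u

open CategoryTheory Opposite

namespace Groth.Agent.NonAbBd

open NonAbH1 NonAbH1.GSheaf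

variable {C : Type u} [Category.{v} C] {J : GrothendieckTopology C}

section Sheaf

variable (P : Sheaf J (Type w))

/-- sections agreeing on a covering sieve are equal -/
lemma sep {U : C} {S : Sieve U} (hS : S ∈ J U) {x y : P.obj.obj (op U)}
    (h : ∀ ⦃V : C⦄ (f : V ⟶ U), S f → P.obj.map f.op x = P.obj.map f.op y) : x = y :=
  (((isSheaf_iff_isSheaf_of_type J _).1 P.property) S hS).isSeparatedFor.ext fun V f hf => h f hf

/-- gluing on a covering sieve -/
lemma glue {U : C} {S : Sieve U} (hS : S ∈ J U) (x : ∀ ⦃V : C⦄ (f : V ⟶ U), S f → P.obj.obj (op V))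
    (hx : ∀ ⦃V W : C⦄ (f : V ⟶ U) (hf : S f) (g : W ⟶ V),
      P.obj.map g.op (x f hf) = x (g ≫ f) (S.downward_closed hf g)) :
    ∃ z : P.obj.obj (op U), ∀ ⦃V : C⦄ (f : V ⟶ U) (hf : S f), P.obj.map f.op z = x f hf := by
  have hc : Presieve.FamilyOfElements.SieveCompatible (P := P.obj) x := fun V W f g hf => (hx f hf g).symm
  exact ⟨_, (((isSheaf_iff_isSheaf_of_type J _).1 P.property) S hS).isAmalgamation
    ((Presieve.compatible_iff_sieveCompatible _).2 hc)⟩

/-- a locally existing, unique condition glues to a compatible family -/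
lemma exists_family (R : ∀ U : C, P.obj.obj (op U) → Prop)
    (hmap : ∀ ⦃U V : C⦄ (f : V ⟶ U) (x : P.obj.obj (op U)), R U x → R V (P.obj.map f.op x))
    (huniq : ∀ (U : C) (x y : P.obj.obj (op U)), R U x → R U y → x = y)
    (hex : ∀ U : C, ∃ S ∈ J U, ∀ ⦃V : C⦄ (f : V ⟶ U), S f → ∃ x : P.obj.obj (op V), R V x) :
    ∃ s : P.obj.sections, ∀ (U : Cᵒᵖ) (x : P.obj.obj U), R U.unop x → s.1 U = x := by
  choose S hS hex using hex
  choose x hx using hex
  have hg : ∀ U : C, ∃ z : P.obj.obj (op U), ∀ ⦃V : C⦄ (f : V ⟶ U) (hf : S U f),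
      P.obj.map f.op z = x U f hf := fun U => glue P (hS U) (fun V f hf => x U f hf) fun V W f hf g =>
    huniq W _ _ (hmap g _ (hx U f hf)) (hx U (g ≫ f) _)
  choose z hz using hg
  have hloc : ∀ (U V : C) (f : V ⟶ U), P.obj.map f.op (z U) = z V := by
    intro U V f
    refine sep P (J.intersection_covering (hS V) (J.pullback_stable f (hS U))) fun W g hg => ?_
    rw [hz V g hg.1, ← Functor.map_comp_apply, ← op_comp, hz U (g ≫ f) hg.2]
    exact huniq W _ _ (hx U (g ≫ f) hg.2) (hx V g hg.1)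
  refine ⟨⟨fun U => z U.unop, fun {U V} f => hloc U.unop V.unop f.unop⟩, fun U y hy => ?_⟩
  exact sep P (hS U.unop) fun V f hf => (hz U.unop f hf).trans (huniq V _ _ (hx U.unop f hf) (hmap f y hy))

end Sheaf

variable {G : Sheaf J GrpCat.{w}}

/-- an equivariant map bijective on sections is an isomorphism -/
lemma isIso_of_bijective {P Q : GSheaf G} (φ : P ⟶ Q) (h : ∀ U, Function.Bijective (φ.hom.hom.app U)) : IsIso φ := by
  haveI : ∀ U, IsIso (φ.hom.hom.app U) := fun U => (isIso_iff_bijective _).2 (h U)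
  haveI : IsIso φ.hom.hom := NatIso.isIso_of_isIso_app _
  haveI : IsIso ((sheafToPresheaf J (Type w)).map φ.hom) := inferInstanceAs (IsIso φ.hom.hom)
  haveI : IsIso φ.hom := isIso_of_reflects_iso φ.hom (sheafToPresheaf J (Type w))
  let ψ : Q ⟶ P := ⟨inv φ.hom, fun {U} g q => (h U).1 (by
    have e : ∀ y : Q.P.obj.obj U, φ.hom.hom.app U ((inv φ.hom).hom.app U y) = y := fun y =>
      ConcreteCategory.congr_hom (congrArg (fun (t : Q.P ⟶ Q.P) => t.hom.app U) (IsIso.inv_hom_id φ.hom)) y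
    rw [φ.map_smul, e, e])⟩
  exact ⟨ψ, GSheaf.hom_ext (IsIso.hom_inv_id φ.hom), GSheaf.hom_ext (IsIso.inv_hom_id φ.hom)⟩

variable [J.HasSheafCompose (forget GrpCat.{w})]

/-- a torsor with a global section is trivial, and conversely -/
theorem nonempty_iso_trivial_iff {P : GSheaf G} (hP : P.IsPseudoTorsor) :
    Nonempty (P ≅ GSheaf.trivial G) ↔ P.HasSection := by
  constructor
  · rintro ⟨e⟩
    refine ⟨fun U => e.inv.hom.hom.app U (ofGrp (1 : G.obj.obj U)), fun {U V} f => ?_⟩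
    refine (NatTrans.naturality_apply e.inv.hom.hom f (ofGrp (1 : G.obj.obj U))).symm.trans ?_
    exact congrArg _ (map_one (G.obj.map f).hom)
  · rintro ⟨s', hs'⟩
    let s : P.P.obj.sections := ⟨s', hs'⟩
    let φ : GSheaf.trivial G ⟶ P :=
      { hom := ⟨{ app := fun U => TypeCat.ofHom fun g => P.smul (toGrp g) (s.1 U)
                  naturality := fun U V f => by
                    ext g
                    change P.smul (G.obj.map f (toGrp g)) (s.1 V) = P.P.obj.map f (P.smul (toGrp g) (s.1 U))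
                    rw [P.map_smul, s.2 f] }⟩
        map_smul := fun g p => P.mul_smul g (toGrp p) _ }
    haveI : IsIso φ := isIso_of_bijective φ fun U =>
      ⟨fun a b hab => (hP U (s.1 U) _).unique hab rfl, fun q => (hP U (s.1 U) q).exists⟩
    exact ⟨(asIso φ).symm⟩

theorem cl_eq_one_iff (T : Torsor G) : T.cl = 1 ↔ T.toGSheaf.HasSection := by
  rw [← nonempty_iso_trivial_iff T.isTorsor.1]
  refine ⟨fun h => ?_, fun h => Quot.sound h⟩
  have : ∀ P Q : Torsor G, Relation.EqvGen (fun P Q : Torsor G => Nonempty (P.toGSheaf ≅ Q.toGSheaf)) P Q →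
      Nonempty (P.toGSheaf ≅ Q.toGSheaf) := by
    intro P Q hPQ
    induction hPQ with
    | rel _ _ h => exact h
    | refl x => exact ⟨Iso.refl _⟩
    | symm _ _ _ h => exact ⟨h.some.symm⟩
    | trans _ _ _ _ _ h h' => exact ⟨h.some ≪≫ h'.some⟩
  exact this T (trivialTorsor G) (Quot.eqvGen_exact h)

variable {F : Sheaf J GrpCat.{w}} {u : F ⟶ G} {Q : GSheaf G} {π : GSheaf.trivial G ⟶ Q}

lemma π_mul (U : Cᵒᵖ) (g h : G.obj.obj U) :
    π.hom.hom.app U (ofGrp (g * h)) = Q.smul g (π.hom.hom.app U (ofGrp h)) :=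
  π.map_smul g (ofGrp h)

lemma π_map {U V : Cᵒᵖ} (f : U ⟶ V) (g : G.obj.obj U) :
    π.hom.hom.app V (ofGrp (G.obj.map f g)) = Q.P.obj.map f (π.hom.hom.app U (ofGrp g)) :=
  NatTrans.naturality_apply π.hom.hom f (ofGrp g)

theorem hasSection_fibre_iff (c : Q.P.obj.sections) {T : GSheaf F} (hT : IsFibreOver u π c T) :
    T.HasSection ↔ ∃ g : (uSh G).obj.sections, ∀ U, π.hom.hom.app U (g.1 U) = c.1 U := by
  obtain ⟨ι, hi, hfib, -⟩ := hT
  constructor
  · rintro ⟨s', hs'⟩
    let s : T.P.obj.sections := ⟨s', hs'⟩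
    refine ⟨⟨fun U => ι.hom.app U (s.1 U), fun {U V} f => ?_⟩, fun U => ?_⟩
    · exact (NatTrans.naturality_apply ι.hom f (s.1 U)).symm.trans (congrArg _ (s.2 f))
    · exact (hfib U (toGrp (ι.hom.app U (s.1 U)))).1 ⟨s.1 U, rfl⟩
  · rintro ⟨g, hg⟩
    choose t ht using fun U => (hfib U (toGrp (g.1 U))).2 (hg U)
    refine ⟨t, fun {U V} f => hi V ?_⟩
    refine (NatTrans.naturality_apply ι.hom f (t U)).trans ?_
    rw [show ι.hom.app U (t U) = g.1 U from ht U, show ι.hom.app V (t V) = g.1 V from ht V]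
    exact g.2 f

theorem cl_fibre_eq_one_iff (c : Q.P.obj.sections) (T : Torsor F) (hT : IsFibreOver u π c T.toGSheaf) :
    T.cl = 1 ↔ ∃ g : (uSh G).obj.sections, ∀ U, π.hom.hom.app U (g.1 U) = c.1 U :=
  (cl_eq_one_iff T).trans (hasSection_fibre_iff c hT)

/-- translating liftings -/
theorem nonempty_iso_of_smul {c c' : Q.P.obj.sections} {T T' : GSheaf F} (hT : IsFibreOver u π c T)
    (hT' : IsFibreOver u π c' T') (g : (uSh G).obj.sections) (hg : ∀ U, Q.smul (toGrp (g.1 U)) (c.1 U) = c'.1 U) :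
    Nonempty (T ≅ T') := by
  obtain ⟨ι, hi, hfib, heq⟩ := hT
  obtain ⟨ι', hi', hfib', heq'⟩ := hT'
  have hex : ∀ (U : Cᵒᵖ) (t : T.P.obj.obj U), ∃ t', toGrp (ι'.hom.app U t') = toGrp (g.1 U) * toGrp (ι.hom.app U t) := by
    intro U t
    refine (hfib' U _).2 ?_
    rw [π_mul, (hfib U _).1 ⟨t, rfl⟩]
    exact hg U
  choose τ hτ using hex
  let φ : T ⟶ T' :=
    { hom := ⟨{ app := fun U => TypeCat.ofHom (τ U)
                naturality := fun U V f => by
                  ext t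
                  refine hi' V ?_
                  change toGrp (ι'.hom.app V (τ V (T.P.obj.map f t))) = toGrp (ι'.hom.app V (T'.P.obj.map f (τ U t)))
                  rw [hτ, show ι'.hom.app V (T'.P.obj.map f (τ U t)) = (uSh G).obj.map f (ι'.hom.app U (τ U t)) from
                    NatTrans.naturality_apply ι'.hom f (τ U t),
                    show ι.hom.app V (T.P.obj.map f t) = (uSh G).obj.map f (ι.hom.app U t) from
                    NatTrans.naturality_apply ι.hom f t, ← g.2 f]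
                  change G.obj.map f (toGrp (g.1 U)) * G.obj.map f (toGrp (ι.hom.app U t)) =
                    G.obj.map f (toGrp (ι'.hom.app U (τ U t)))
                  rw [hτ, map_mul] }⟩
      map_smul := fun {U} f t => hi' U (by
        change toGrp (ι'.hom.app U (τ U (T.smul f t))) = toGrp (ι'.hom.app U (T'.smul f (τ U t)))
        rw [hτ, heq, heq', hτ, mul_assoc]) }
  haveI : IsIso φ := isIso_of_bijective φ fun U => by
    refine ⟨fun t s hts => hi U ?_, fun t' => ?_⟩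
    · have h1 := congrArg (fun z => toGrp (ι'.hom.app U z)) (show τ U t = τ U s from hts)
      simp only [hτ] at h1
      exact (mul_left_cancel h1 : toGrp (ι.hom.app U t) = toGrp (ι.hom.app U s))
    · obtain ⟨t, ht⟩ := (hfib U ((toGrp (g.1 U))⁻¹ * toGrp (ι'.hom.app U t'))).2 (by
        rw [π_mul, (hfib' U _).1 ⟨t', rfl⟩, ← hg U, ← Q.mul_smul, inv_mul_cancel, Q.one_smul])
      refine ⟨t, hi' U ?_⟩
      change toGrp (ι'.hom.app U (τ U t)) = _
      rw [hτ, ht, mul_inv_cancel_left]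
  exact ⟨asIso φ⟩

variable (hu : ∀ U, Function.Injective (u.hom.app U)) (hQ : IsQuotientBy u π)

include hu hQ

theorem isTorsor_fibre (c : Q.P.obj.sections) {T : GSheaf F} (hT : IsFibreOver u π c T) : T.IsTorsor := by
  obtain ⟨ι, hi, hfib, heq⟩ := hT
  refine ⟨fun U p q => ?_, fun U => ?_⟩
  · have h : π.hom.hom.app U (ofGrp (toGrp (ι.hom.app U p))) = π.hom.hom.app U (ofGrp (toGrp (ι.hom.app U q))) :=
      ((hfib U _).1 ⟨p, rfl⟩).trans ((hfib U _).1 ⟨q, rfl⟩).symm
    obtain ⟨f, hf⟩ := (hQ.1 U _ _).1 h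
    refine ⟨f⁻¹, hi U ?_, fun f' hf' => ?_⟩
    · change toGrp (ι.hom.app U (T.smul f⁻¹ p)) = toGrp (ι.hom.app U q)
      rw [heq, map_inv, inv_inv, hf]
    · have h2 : toGrp (ι.hom.app U p) * (u.hom.app U f')⁻¹ = toGrp (ι.hom.app U p) * u.hom.app U f := by
        rw [← heq, hf', hf]
      refine inv_inj.1 ?_
      rw [inv_inv]
      exact hu U ((map_inv _ _).trans (mul_left_cancel h2))
  · obtain ⟨S, hS, hS'⟩ := hQ.2 U (c.1 (op U))
    refine ⟨S, hS, fun V a ha => ?_⟩
    obtain ⟨g, hg⟩ := hS' a ha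
    obtain ⟨t, -⟩ := (hfib (op V) g).2 (hg.trans (c.2 a.op))
    exact ⟨t⟩

theorem exists_fibre (c : Q.P.obj.sections) : ∃ T : GSheaf F, IsFibreOver u π c T := by
  let K : Subfunctor (uSh G).obj :=
    { obj := fun U => {g | π.hom.hom.app U g = c.1 U}
      map := fun {U V} f g hg => by
        exact (NatTrans.naturality_apply π.hom.hom f g).trans ((congrArg _ hg).trans (c.2 f)) }
  have hK : Presheaf.IsSheaf J K.toFunctor := by
    rw [isSheaf_iff_isSheaf_of_type]
    intro U S hS x hx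
    obtain ⟨z, hz⟩ := glue (uSh G) hS (fun V f hf => (x f hf).1) fun V W f hf g =>
      congrArg Subtype.val (((Presieve.compatible_iff_sieveCompatible _).1 hx) f g hf).symm
    refine ⟨⟨z, sep Q.P hS fun V f hf => ?_⟩, fun V f hf => Subtype.ext (hz f hf), fun y hy => Subtype.ext
      (sep (uSh G) hS fun V f hf => (congrArg Subtype.val (hy f hf)).trans (hz f hf).symm)⟩
    refine (NatTrans.naturality_apply π.hom.hom f.op z).symm.trans ?_
    rw [show (GSheaf.trivial G).P.obj.map f.op z = (x f hf).1 from hz f hf]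
    exact (x f hf).2.trans (c.2 f.op).symm
  let P : Sheaf J (Type w) := ⟨K.toFunctor, hK⟩
  have hmem : ∀ (U : Cᵒᵖ) (f : F.obj.obj U) (g : (uSh G).obj.obj U), π.hom.hom.app U g = c.1 U →
      π.hom.hom.app U (ofGrp (toGrp g * (u.hom.app U f)⁻¹)) = c.1 U := fun U f g hg =>
    (((hQ.1 U (toGrp g) _).2 ⟨f⁻¹, by rw [map_inv]⟩)).symm.trans hg
  refine ⟨{ P := P
            smul := fun {U} f g => ⟨ofGrp (toGrp g.1 * (u.hom.app U f)⁻¹), hmem U f g.1 g.2⟩
            one_smul := fun {U} g => Subtype.ext (by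
              change toGrp g.1 * (u.hom.app U 1)⁻¹ = toGrp g.1
              simp)
            mul_smul := fun {U} f f' g => Subtype.ext (by
              change toGrp g.1 * (u.hom.app U (f * f'))⁻¹ = toGrp g.1 * (u.hom.app U f')⁻¹ * (u.hom.app U f)⁻¹
              rw [map_mul, mul_inv_rev, mul_assoc])
            map_smul := fun {U V} a f g => Subtype.ext (by
              change G.obj.map a (toGrp g.1 * (u.hom.app U f)⁻¹) =
                G.obj.map a (toGrp g.1) * (u.hom.app V (F.obj.map a f))⁻¹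
              rw [map_mul, map_inv]
              exact congrArg (fun z => _ * z⁻¹) (NatTrans.naturality_apply u.hom a f).symm) },
    ⟨K.ι⟩, fun U => Subtype.val_injective, fun U g => ⟨?_, fun hg => ⟨⟨g, hg⟩, rfl⟩⟩, fun U f t => rfl⟩
  rintro ⟨t, rfl⟩
  exact t.2

theorem iso_fibre_iff {c c' : Q.P.obj.sections} {T T' : GSheaf F} (hT : IsFibreOver u π c T)
    (hT' : IsFibreOver u π c' T') :
    Nonempty (T ≅ T') ↔ ∃ g : (uSh G).obj.sections, ∀ U, Q.smul (toGrp (g.1 U)) (c.1 U) = c'.1 U := by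
  refine ⟨?_, fun ⟨g, hg⟩ => nonempty_iso_of_smul hT hT' g hg⟩
  rintro ⟨e⟩
  have htor := isTorsor_fibre hu hQ c hT
  obtain ⟨ι, hi, hfib, heq⟩ := hT
  obtain ⟨ι', hi', hfib', heq'⟩ := hT'
  have hnat : ∀ {U V : Cᵒᵖ} (f : U ⟶ V) (t : T.P.obj.obj U),
      toGrp (ι.hom.app V (T.P.obj.map f t)) = G.obj.map f (toGrp (ι.hom.app U t)) :=
    fun f t => NatTrans.naturality_apply ι.hom f t
  have hnat' : ∀ {U V : Cᵒᵖ} (f : U ⟶ V) (t : T.P.obj.obj U),
      toGrp (ι'.hom.app V (e.hom.hom.hom.app V (T.P.obj.map f t))) =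
        G.obj.map f (toGrp (ι'.hom.app U (e.hom.hom.hom.app U t))) := fun f t =>
    (congrArg (fun z => toGrp (ι'.hom.app _ z)) (NatTrans.naturality_apply e.hom.hom.hom f t)).trans
      (NatTrans.naturality_apply ι'.hom f _)
  obtain ⟨g, hg⟩ := exists_family (uSh G)
    (fun U x => ∀ V (a : V ⟶ U) (t : T.P.obj.obj (op V)),
      toGrp (ι'.hom.app _ (e.hom.hom.hom.app _ t)) = G.obj.map a.op (toGrp x) * toGrp (ι.hom.app _ t))
    (fun U V f x hx W a t => by
      rw [hx W (a ≫ f) t]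
      refine congrArg (· * _) ?_
      change G.obj.map (a ≫ f).op (toGrp x) = G.obj.map a.op (G.obj.map f.op (toGrp x))
      rw [op_comp, Functor.map_comp]
      rfl)
    (fun U x y hx hy => by
      obtain ⟨S, hS, hne⟩ := htor.2 U
      refine sep (uSh G) hS fun V f hf => ?_
      obtain ⟨t⟩ := hne f hf
      exact (mul_right_cancel ((hx V f t).symm.trans (hy V f t)) :
        G.obj.map f.op (toGrp x) = G.obj.map f.op (toGrp y)))
    (fun U => by
      obtain ⟨S, hS, hne⟩ := htor.2 U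
      refine ⟨S, hS, fun V f hf => ?_⟩
      obtain ⟨t⟩ := hne f hf
      refine ⟨ofGrp (toGrp (ι'.hom.app _ (e.hom.hom.hom.app _ t)) * (toGrp (ι.hom.app _ t))⁻¹), fun W a s => ?_⟩
      obtain ⟨b, hb, -⟩ := htor.1 (op W) (T.P.obj.map a.op t) s
      rw [← hb, e.hom.map_smul, heq, heq', hnat, hnat']
      change _ = G.obj.map a.op (_ * _) * _
      rw [map_mul, map_inv, mul_assoc, inv_mul_cancel_left])
  refine ⟨g, fun U => ?_⟩
  obtain ⟨U⟩ := U
  obtain ⟨S, hS, hne⟩ := htor.2 U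
  refine sep Q.P hS fun V f hf => ?_
  obtain ⟨t⟩ := hne f hf
  rw [Q.map_smul, c.2 f.op, c'.2 f.op]
  let x : (uSh G).obj.obj (op V) :=
    ofGrp (toGrp (ι'.hom.app _ (e.hom.hom.hom.app _ t)) * (toGrp (ι.hom.app _ t))⁻¹)
  have hx : g.1 (op V) = x := hg (op V) x fun W a s => by
    obtain ⟨b, hb, -⟩ := htor.1 (op W) (T.P.obj.map a.op t) s
    rw [← hb, e.hom.map_smul, heq, heq', hnat, hnat']
    change _ = G.obj.map a.op (_ * _) * _
    rw [map_mul, map_inv, mul_assoc, inv_mul_cancel_left]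
  have hgV : G.obj.map f.op (toGrp (g.1 (op U))) = toGrp x := (g.2 f.op).trans hx
  rw [hgV, ← (hfib (op V) _).1 ⟨t, rfl⟩, ← π_mul, ← (hfib' (op V) _).1 ⟨e.hom.hom.hom.app _ t, rfl⟩]
  simp [x]

theorem isPushforward_trivial_iff (T : Torsor F) :
    IsPushforwardAlong u T.toGSheaf (GSheaf.trivial G) ↔ ∃ c : Q.P.obj.sections, IsFibreOver u π c T.toGSheaf := by
  constructor
  · rintro ⟨f, hf⟩
    let k : ∀ U : Cᵒᵖ, T.P.obj.obj U → G.obj.obj U := fun U p => (toGrp (f.hom.app U p))⁻¹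
    have hk : ∀ (U : Cᵒᵖ) (a : F.obj.obj U) (p : T.P.obj.obj U), k U (T.smul a p) = k U p * (u.hom.app U a)⁻¹ :=
      fun U a p => by
        have h' : toGrp (f.hom.app U (T.smul a p)) = u.hom.app U a * toGrp (f.hom.app U p) := hf U a p
        change (toGrp (f.hom.app U (T.smul a p)))⁻¹ = _
        rw [h', mul_inv_rev]
    have hkn : ∀ {U V : Cᵒᵖ} (a : U ⟶ V) (p : T.P.obj.obj U), k V (T.P.obj.map a p) = G.obj.map a (k U p) :=
      fun a p => by
        have h' : toGrp (f.hom.app _ (T.P.obj.map a p)) = G.obj.map a (toGrp (f.hom.app _ p)) :=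
          NatTrans.naturality_apply f.hom a p
        change (toGrp (f.hom.app _ (T.P.obj.map a p)))⁻¹ = _
        rw [h', ← map_inv]
    obtain ⟨c, hc⟩ := exists_family Q.P
      (fun U x => ∀ V (a : V ⟶ U) (p : T.P.obj.obj (op V)), π.hom.hom.app _ (ofGrp (k _ p)) = Q.P.obj.map a.op x)
      (fun U V f x hx W a p => by
        rw [hx W (a ≫ f) p, op_comp, Functor.map_comp]
        rfl)
      (fun U x y hx hy => by
        obtain ⟨S, hS, hne⟩ := T.isTorsor.2 U
        refine sep Q.P hS fun V f hf => ?_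
        obtain ⟨t⟩ := hne f hf
        exact (hx V f t).symm.trans (hy V f t))
      (fun U => by
        obtain ⟨S, hS, hne⟩ := T.isTorsor.2 U
        refine ⟨S, hS, fun V f hf => ?_⟩
        obtain ⟨t⟩ := hne f hf
        refine ⟨π.hom.hom.app _ (ofGrp (k _ t)), fun W a s => ?_⟩
        obtain ⟨b, hb, -⟩ := T.isTorsor.1 (op W) (T.P.obj.map a.op t) s
        rw [← π_map, ← hkn, ← hb, hk]
        exact ((hQ.1 _ _ _).2 ⟨b⁻¹, by rw [map_inv]⟩).symm)
    have hcp : ∀ (U : Cᵒᵖ) (p : T.P.obj.obj U), π.hom.hom.app U (ofGrp (k U p)) = c.1 U := fun U p =>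
      (hc U _ fun W a s => by
        obtain ⟨b, hb, -⟩ := T.isTorsor.1 (op W) (T.P.obj.map a.op p) s
        rw [← π_map, ← hkn, ← hb, hk]
        exact ((hQ.1 _ _ _).2 ⟨b⁻¹, by rw [map_inv]⟩).symm).symm
    refine ⟨c, ⟨{ app := fun U => TypeCat.ofHom fun p => ofGrp (k U p)
                  naturality := fun U V a => by ext p; exact hkn a p }⟩, fun U p q hpq => ?_, fun U g => ⟨?_, ?_⟩, fun U a p => hk U a p⟩
    · obtain ⟨b, hb, -⟩ := T.isTorsor.1 U p q
      have h1 : k U p = k U q := hpq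
      rw [← hb, hk] at h1
      have h2 : u.hom.app U b = u.hom.app U 1 := by
        rw [map_one]
        exact inv_eq_one.1 (left_eq_mul.1 h1)
      rw [← hb, hu U h2, T.one_smul]
    · rintro ⟨t, rfl⟩
      exact hcp U t
    · intro hg
      obtain ⟨U⟩ := U
      obtain ⟨S, hS, hne⟩ := T.isTorsor.2 U
      have hloc : ∀ ⦃V : C⦄ (a : V ⟶ U) (ha : S a), ∃ t : T.P.obj.obj (op V), k _ t = G.obj.map a.op g := by
        intro V a ha
        obtain ⟨t⟩ := hne a ha
        have h1 : π.hom.hom.app _ (ofGrp (k _ t)) = π.hom.hom.app _ (ofGrp (G.obj.map a.op g)) := by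
          rw [hcp, π_map, hg, c.2 a.op]
        obtain ⟨b, hb⟩ := (hQ.1 _ _ _).1 h1
        exact ⟨T.smul b⁻¹ t, by rw [hk, map_inv, inv_inv, hb]⟩
      choose t ht using hloc
      have hinj : ∀ (W : Cᵒᵖ) (p q : T.P.obj.obj W), k W p = k W q → p = q := fun W p q h1 => by
        obtain ⟨b, hb, -⟩ := T.isTorsor.1 W p q
        rw [← hb, hk] at h1
        have h2 : u.hom.app W b = u.hom.app W 1 := by
          rw [map_one]
          exact inv_eq_one.1 (left_eq_mul.1 h1)
        rw [← hb, hu W h2, T.one_smul]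
      obtain ⟨z, hz⟩ := glue T.P hS t fun V W a ha b => hinj _ _ _ (by
        rw [hkn, ht, ht, op_comp, Functor.map_comp]
        rfl)
      refine ⟨z, sep (uSh G) hS fun V a ha => ?_⟩
      change G.obj.map a.op (k _ z) = G.obj.map a.op g
      rw [← hkn, hz a ha, ht]
  · rintro ⟨c, ι, hi, hfib, heq⟩
    refine ⟨⟨{ app := fun U => TypeCat.ofHom fun p => ofGrp (toGrp (ι.hom.app U p))⁻¹
               naturality := fun U V a => by
                 ext p
                 change (toGrp (ι.hom.app V (T.P.obj.map a p)))⁻¹ = G.obj.map a (toGrp (ι.hom.app U p))⁻¹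
                 rw [map_inv]
                 exact congrArg Inv.inv (NatTrans.naturality_apply ι.hom a p) }⟩, fun U a p => ?_⟩
    change (toGrp (ι.hom.app U (T.smul a p)))⁻¹ = u.hom.app U a * (toGrp (ι.hom.app U p))⁻¹
    rw [heq, mul_inv_rev, inv_inv]

theorem fibre_facts (c : Q.P.obj.sections) :
    (∃ T : Torsor F, IsFibreOver u π c T.toGSheaf) ∧ (∀ T : GSheaf F, IsFibreOver u π c T → T.IsTorsor) ∧
      ∀ T T' : GSheaf F, IsFibreOver u π c T → IsFibreOver u π c T' → Nonempty (T ≅ T') := by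
  obtain ⟨T, hT⟩ := exists_fibre hu hQ c
  refine ⟨⟨⟨T, isTorsor_fibre hu hQ c hT⟩, hT⟩, fun S hS => isTorsor_fibre hu hQ c hS, fun S S' hS hS' => ?_⟩
  exact nonempty_iso_of_smul hS hS' ⟨fun U => ofGrp (1 : G.obj.obj U), fun {U V} f => map_one (G.obj.map f).hom⟩
    fun U => Q.one_smul _

end Groth.Agent.NonAbBd
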