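import Groth.Prelude.Def_NonAbH1
import Groth.Prelude.Def_EtBase
import Mathlib.CategoryTheory.Sites.Continuous

/-!
Exactness in the middle of `H¹(Y, f_*F) → H¹(X, F) → H⁰(Y, R¹f_*F)` in terms of torsors.
-/

set_option autoImplicit false
set_option backward.isDefEq.respectTransparency false
set_option backward.isDefEq.respectTransparency.types false

universe u

open CategoryTheory CategoryTheory.Limits AlgebraicGeometry Opposite

namespace Groth.Agent.NonAbBd

variable {X Y : Scheme.{u}} (f : X ⟶ Y) [EtCoh.BCCont f]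
  (F : Sheaf X.smallEtaleTopology GrpCat.{u + 1})

/-- direct image of a sheaf with an action -/
noncomputable def pushGSheaf (Q : NonAbH1.GSheaf F) :
    NonAbH1.GSheaf (((EtCoh.bc f).sheafPushforwardContinuous GrpCat.{u + 1}
      Y.smallEtaleTopology X.smallEtaleTopology).obj F) where
  P := ((EtCoh.bc f).sheafPushforwardContinuous (Type (u + 1)) Y.smallEtaleTopology X.smallEtaleTopology).obj Q.P
  smul {U} g p := Q.smul (U := op ((EtCoh.bc f).obj U.unop)) g p
  one_smul {U} p := Q.one_smul (U := op ((EtCoh.bc f).obj U.unop)) p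
  mul_smul {U} g h p := Q.mul_smul (U := op ((EtCoh.bc f).obj U.unop)) g h p
  map_smul {U V} k g p := Q.map_smul ((EtCoh.bc f).map k.unop).op g p

lemma pushGSheaf_isPseudoTorsor (Q : NonAbH1.GSheaf F) (hQ : Q.IsPseudoTorsor) :
    (pushGSheaf f F Q).IsPseudoTorsor :=
  fun U p q => hQ (op ((EtCoh.bc f).obj U.unop)) p q

lemma pushGSheaf_locallyNonempty (Q : NonAbH1.GSheaf F) {ι : Type u} (V : ι → Y.Etale)
    (hV : EtCoh.Covers V) (q : ∀ i, Nonempty (Q.P.obj.obj (op ((EtCoh.bc f).obj (V i))))) :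
    (pushGSheaf f F Q).LocallyNonempty := by
  intro U
  haveI : ∀ i, Etale (V i).hom := fun i => (V i).prop
  haveI : Etale U.hom := U.prop
  haveI : ∀ i, Etale (pullback.fst U.hom (V i).hom) := fun i =>
    MorphismProperty.pullback_fst _ _ (V i).prop
  let Z : ι → Y.Etale := fun i => Scheme.Etale.mk (pullback.fst U.hom (V i).hom ≫ U.hom)
  let a : ∀ i, Z i ⟶ U := fun i =>
    MorphismProperty.Over.homMk (pullback.fst U.hom (V i).hom) rfl
  let b : ∀ i, Z i ⟶ V i := fun i =>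
    MorphismProperty.Over.homMk (pullback.snd U.hom (V i).hom) pullback.condition.symm
  refine ⟨Sieve.ofArrows Z a, ?_, ?_⟩
  · refine (Scheme.ofArrows_mem_smallEtaleTopology_iff a).2 (Set.eq_univ_of_forall fun x => ?_)
    obtain ⟨i, y, hy⟩ := hV (U.hom.base x)
    obtain ⟨z, hz, -⟩ := Scheme.Pullback.exists_preimage_pullback (f := U.hom) (g := (V i).hom) x y hy.symm
    exact Set.mem_iUnion.2 ⟨i, z, hz⟩
  · rintro W g ⟨_, h, _, ⟨i⟩, rfl⟩
    obtain ⟨s⟩ := q i
    exact ⟨(pushGSheaf f F Q).P.obj.map (h ≫ b i).op s⟩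

theorem etale_exact (Q : NonAbH1.Torsor F) :
    (∃ (P : NonAbH1.Torsor (((EtCoh.bc f).sheafPushforwardContinuous GrpCat.{u + 1} Y.smallEtaleTopology
        X.smallEtaleTopology).obj F)) (φ : P.P ⟶ ((EtCoh.bc f).sheafPushforwardContinuous (Type (u + 1))
        Y.smallEtaleTopology X.smallEtaleTopology).obj Q.P),
        ∀ (V : Y.Etaleᵒᵖ) (g : F.obj.obj (op ((EtCoh.bc f).obj V.unop))) (s : P.P.obj.obj V),
          φ.hom.app V (P.smul g s) = Q.smul g (φ.hom.app V s)) ↔
      ∃ (ι : Type u) (V : ι → Y.Etale), EtCoh.Covers V ∧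
        ∀ i, Nonempty (Q.P.obj.obj (op ((EtCoh.bc f).obj (V i)))) := by
  constructor
  · rintro ⟨P, φ, -⟩
    obtain ⟨S, hS, hne⟩ := P.isTorsor.2 (EtCoh.top Y)
    have h : Sieve.ofArrows (fun k : Σ W : Y.Etale, {g : W ⟶ EtCoh.top Y // S g} => k.1)
        (fun k => k.2.1) ∈ Y.smallEtaleTopology (EtCoh.top Y) :=
      Y.smallEtaleTopology.superset_covering
        (fun W g hg => Sieve.ofArrows_mk _ _ (⟨W, g, hg⟩ : Σ W : Y.Etale, {g : W ⟶ EtCoh.top Y // S g})) hS
    have hsurj : ∀ y : Y, ∃ (k : Σ W : Y.Etale, {g : W ⟶ EtCoh.top Y // S g}) (w : k.1.left),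
        k.1.hom.base w = y := by
      intro y
      have hy : (y : (EtCoh.top Y).left) ∈ (Set.univ : Set (EtCoh.top Y).left) := trivial
      rw [← (Scheme.ofArrows_mem_smallEtaleTopology_iff _).1 h] at hy
      obtain ⟨k, w, hw⟩ := Set.mem_iUnion.1 hy
      refine ⟨k, w, ?_⟩
      have := Over.w k.2.1.hom
      rw [show k.1.hom = k.2.1.left ≫ (EtCoh.top Y).hom from this.symm]
      exact hw
    choose k w hw using hsurj
    refine ⟨Y, fun y => (k y).1, fun y => ⟨y, w y, hw y⟩, fun y => ?_⟩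
    obtain ⟨s⟩ := hne (k y).2.1 (k y).2.2
    exact ⟨φ.hom.app (op (k y).1) s⟩
  · rintro ⟨ι, V, hV, q⟩
    exact ⟨⟨pushGSheaf f F Q.toGSheaf, pushGSheaf_isPseudoTorsor f F _ Q.isTorsor.1,
      pushGSheaf_locallyNonempty f F _ V hV q⟩, 𝟙 _, fun V g s => rfl⟩

end Groth.Agent.NonAbBd
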